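import Mathlib
import Cfsg.Agent.S0762
import Cfsg.Agent.ClassicalGeometry.SiegelGen
set_option linter.all false

/-!
# Standard bases of nondegenerate quadratic spaces over finite fields

Hyperbolic families, their extension, and the hyperbolic / elliptic basis of an even-dimensional
nondegenerate quadratic space over a finite field (every characteristic).
-/

set_option autoImplicit false

namespace Cfsg.Agent.H181.StdBasis

open QuadraticMap Module

/-- A quadratic form in at least three variables over a finite field has a nontrivial zero. -/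
theorem exists_singular {F V : Type*} [Field F] [Finite F] [AddCommGroup V] [Module F V]
    [FiniteDimensional F V] (Q : QuadraticForm F V) (h3 : 3 ≤ finrank F V) :
    ∃ v : V, v ≠ 0 ∧ Q v = 0 := by
  by_cases h2 : (2 : F) = 0
  · have : CharP F 2 := CharTwo.of_one_ne_zero_of_two_eq_zero one_ne_zero h2
    exact Cfsg.Agent.S0762.result Q h3
  · exact Cfsg.Agent.ClassicalGeometry.SiegelGen.exists_singular h2 Q h3

variable {F V : Type*} [Field F] [AddCommGroup V] [Module F V]

/-- A hyperbolic family of length `k`. -/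
structure HypFam (Q : QuadraticForm F V) {k : ℕ} (e f : Fin k → V) : Prop where
  Qe : ∀ i, Q (e i) = 0
  Qf : ∀ i, Q (f i) = 0
  ef : ∀ i j, polar (⇑Q) (e i) (f j) = if i = j then 1 else 0
  ee : ∀ i j, polar (⇑Q) (e i) (e j) = 0
  ff : ∀ i j, polar (⇑Q) (f i) (f j) = 0

namespace HypFam

variable {Q : QuadraticForm F V} {k : ℕ} {e f : Fin k → V}

theorem fe (h : HypFam Q e f) (i j : Fin k) :
    polar (⇑Q) (f i) (e j) = if i = j then 1 else 0 := by
  rw [polar_comm, h.ef]
  simp [eq_comm]

/-- the perpendicular space of a hyperbolic family -/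
def perp (Q : QuadraticForm F V) (e f : Fin k → V) : Submodule F V where
  carrier := {v | ∀ i, polar (⇑Q) (e i) v = 0 ∧ polar (⇑Q) (f i) v = 0}
  add_mem' {x y} hx hy i := by
    rw [polar_add_right, polar_add_right, (hx i).1, (hx i).2, (hy i).1, (hy i).2]
    simp
  zero_mem' i := by simp
  smul_mem' c x hx i := by
    rw [polar_smul_right, polar_smul_right, (hx i).1, (hx i).2]
    simp

theorem mem_perp {v : V} :
    v ∈ perp Q e f ↔ ∀ i, polar (⇑Q) (e i) v = 0 ∧ polar (⇑Q) (f i) v = 0 := Iff.rfl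

/-- the perpendicular space is large -/
theorem le_finrank_perp [FiniteDimensional F V] (Q : QuadraticForm F V) (e f : Fin k → V) :
    finrank F V ≤ finrank F (perp Q e f) + 2 * k := by
  let L : V →ₗ[F] (Fin k ⊕ Fin k → F) :=
    LinearMap.pi (Sum.elim (fun i => polarBilin Q (e i)) (fun i => polarBilin Q (f i)))
  have hL : LinearMap.ker L = perp Q e f := by
    ext v
    rw [LinearMap.mem_ker, mem_perp]
    constructor
    · intro h i
      exact ⟨congrFun h (Sum.inl i), congrFun h (Sum.inr i)⟩
    · intro h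
      funext i
      rcases i with i | i
      · exact (h i).1
      · exact (h i).2
  have h1 := LinearMap.finrank_range_add_finrank_ker L
  have h2 : finrank F (LinearMap.range L) ≤ k + k := by
    refine (Submodule.finrank_le _).trans ?_
    rw [finrank_fintype_fun_eq_card, Fintype.card_sum, Fintype.card_fin]
  rw [hL] at h1
  omega

/-- the projection of a vector to the perpendicular space -/
theorem proj_mem (h : HypFam Q e f) (v : V) :
    v - (∑ i, polar (⇑Q) (f i) v • e i + ∑ i, polar (⇑Q) (e i) v • f i) ∈ perp Q e f := by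
  rw [mem_perp]
  intro i
  have h1 : ∀ u w : V, polar (⇑Q) u w = polarBilin Q u w := fun u w => rfl
  constructor
  · simp only [h1, map_sub, map_add, map_sum, map_smul, smul_eq_mul]
    simp only [← h1, h.ee, h.ef]
    simp
  · simp only [h1, map_sub, map_add, map_sum, map_smul, smul_eq_mul]
    simp only [← h1, h.ff, h.fe]
    simp

/-- the perpendicular space is nondegenerate -/
theorem exists_polar_eq_one (h : HypFam Q e f) (hQ : (polarBilin Q).Nondegenerate) {x : V}
    (hx : x ∈ perp Q e f) (hx0 : x ≠ 0) : ∃ y ∈ perp Q e f, polar (⇑Q) x y = 1 := by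
  obtain ⟨y, hy⟩ : ∃ y, polar (⇑Q) x y ≠ 0 := by
    by_contra hcon
    push Not at hcon
    exact hx0 (hQ.1 x hcon)
  set c := polar (⇑Q) x y with hc
  refine ⟨c⁻¹ • (y - (∑ i, polar (⇑Q) (f i) y • e i + ∑ i, polar (⇑Q) (e i) y • f i)),
    Submodule.smul_mem _ _ (h.proj_mem y), ?_⟩
  have h1 : ∀ u w : V, polar (⇑Q) u w = polarBilin Q u w := fun u w => rfl
  have h2 : ∀ i, polarBilin Q x (e i) = 0 := fun i => by
    rw [← h1, polar_comm]; exact (hx i).1
  have h3 : ∀ i, polarBilin Q x (f i) = 0 := fun i => by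
    rw [← h1, polar_comm]; exact (hx i).2
  rw [h1]
  simp only [map_sub, map_add, map_sum, map_smul, smul_eq_mul, h2, h3]
  rw [← h1, ← hc]
  simp [hy]

/-- a singular vector in the perpendicular space extends the family -/
theorem extend (h : HypFam Q e f) (hQ : (polarBilin Q).Nondegenerate) {x : V}
    (hx : x ∈ perp Q e f) (hx0 : x ≠ 0) (hQx : Q x = 0) :
    ∃ y ∈ perp Q e f, HypFam Q (Fin.snoc e x : Fin (k + 1) → V) (Fin.snoc f y) := by
  obtain ⟨y, hy, hxy⟩ := h.exists_polar_eq_one hQ hx hx0
  have hxx : polar (⇑Q) x x = 0 := by rw [QuadraticMap.polar_self, hQx, smul_zero]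
  set z := y - Q y • x with hz
  have hzm : z ∈ perp Q e f := Submodule.sub_mem _ hy (Submodule.smul_mem _ _ hx)
  have hxz : polar (⇑Q) x z = 1 := by
    rw [hz, polar_sub_right, polar_smul_right, hxx, hxy]; simp
  have hQz : Q z = 0 := by
    rw [hz, sub_eq_add_neg, QuadraticMap.map_add (⇑Q), QuadraticMap.map_neg, QuadraticMap.map_smul, hQx,
      polar_neg_right, polar_smul_right, polar_comm, hxy]
    simp
  have hzz : polar (⇑Q) z z = 0 := by rw [QuadraticMap.polar_self, hQz, smul_zero]
  have hex : ∀ i, polar (⇑Q) (e i) x = 0 := fun i => (hx i).1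
  have hfx : ∀ i, polar (⇑Q) (f i) x = 0 := fun i => (hx i).2
  have hez : ∀ i, polar (⇑Q) (e i) z = 0 := fun i => (hzm i).1
  have hfz : ∀ i, polar (⇑Q) (f i) z = 0 := fun i => (hzm i).2
  have hxe : ∀ i, polar (⇑Q) x (e i) = 0 := fun i => by rw [polar_comm, hex]
  have hxf : ∀ i, polar (⇑Q) x (f i) = 0 := fun i => by rw [polar_comm, hfx]
  have hze : ∀ i, polar (⇑Q) z (e i) = 0 := fun i => by rw [polar_comm, hez]
  have hzf : ∀ i, polar (⇑Q) z (f i) = 0 := fun i => by rw [polar_comm, hfz]
  refine ⟨z, hzm, ?_, ?_, ?_, ?_, ?_⟩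
  · intro i
    refine Fin.lastCases ?_ (fun i => ?_) i
    · rw [Fin.snoc_last, hQx]
    · rw [Fin.snoc_castSucc, h.Qe]
  · intro i
    refine Fin.lastCases ?_ (fun i => ?_) i
    · rw [Fin.snoc_last, hQz]
    · rw [Fin.snoc_castSucc, h.Qf]
  · intro i j
    refine Fin.lastCases ?_ (fun i => ?_) i
    · refine Fin.lastCases ?_ (fun j => ?_) j
      · rw [Fin.snoc_last, Fin.snoc_last, hxz, if_pos rfl]
      · rw [Fin.snoc_last, Fin.snoc_castSucc, hxf, if_neg (Fin.castSucc_lt_last j).ne']
    · refine Fin.lastCases ?_ (fun j => ?_) j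
      · rw [Fin.snoc_last, Fin.snoc_castSucc, hez, if_neg (Fin.castSucc_lt_last i).ne]
      · rw [Fin.snoc_castSucc, Fin.snoc_castSucc, h.ef]
        simp
  · intro i j
    refine Fin.lastCases ?_ (fun i => ?_) i
    · refine Fin.lastCases ?_ (fun j => ?_) j
      · rw [Fin.snoc_last, hxx]
      · rw [Fin.snoc_last, Fin.snoc_castSucc, hxe]
    · refine Fin.lastCases ?_ (fun j => ?_) j
      · rw [Fin.snoc_last, Fin.snoc_castSucc, hex]
      · rw [Fin.snoc_castSucc, Fin.snoc_castSucc, h.ee]
  · intro i j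
    refine Fin.lastCases ?_ (fun i => ?_) i
    · refine Fin.lastCases ?_ (fun j => ?_) j
      · rw [Fin.snoc_last, hzz]
      · rw [Fin.snoc_last, Fin.snoc_castSucc, hzf]
    · refine Fin.lastCases ?_ (fun j => ?_) j
      · rw [Fin.snoc_last, Fin.snoc_castSucc, hfz]
      · rw [Fin.snoc_castSucc, Fin.snoc_castSucc, h.ff]

end HypFam

/-- hyperbolic families of length `k` exist as long as `2 k + 1 ≤ dim V` -/
theorem exists_hypFam [Finite F] [FiniteDimensional F V] (Q : QuadraticForm F V)
    (hQ : (polarBilin Q).Nondegenerate) (k : ℕ) (hk : k = 0 ∨ 2 * k + 1 ≤ finrank F V) :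
    ∃ e f : Fin k → V, HypFam Q e f := by
  induction k with
  | zero =>
    exact ⟨Fin.elim0, Fin.elim0, fun i => i.elim0, fun i => i.elim0, fun i => i.elim0,
      fun i => i.elim0, fun i => i.elim0⟩
  | succ k ih =>
    have hk' : 2 * (k + 1) + 1 ≤ finrank F V := hk.resolve_left (by omega)
    obtain ⟨e, f, h⟩ := ih (by omega)
    have h1 := HypFam.le_finrank_perp Q e f
    obtain ⟨x, hx0, hx⟩ := exists_singular (Q.comp (HypFam.perp Q e f).subtype) (by omega)
    obtain ⟨y, -, hy⟩ := h.extend hQ x.2 (fun h0 => hx0 (Subtype.ext h0)) hx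
    exact ⟨_, _, hy⟩

/-- linear independence of a hyperbolic family together with independent vectors of the
perpendicular space -/
theorem HypFam.linearIndependent_sum {Q : QuadraticForm F V} {k : ℕ} {e f : Fin k → V}
    (h : HypFam Q e f) {κ : Type*} [Fintype κ] (w : κ → V) (hw : ∀ i, w i ∈ HypFam.perp Q e f)
    (hli : LinearIndependent F w) :
    LinearIndependent F (Sum.elim (Sum.elim e f) w) := by
  rw [Fintype.linearIndependent_iff]
  intro c hc
  rw [Fintype.sum_sum_type, Fintype.sum_sum_type] at hc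
  simp only [Sum.elim_inl, Sum.elim_inr] at hc
  have h1 : ∀ u w : V, polar (⇑Q) u w = polarBilin Q u w := fun u w => rfl
  have h2 : ∀ i, c (Sum.inl (Sum.inr i)) = 0 := by
    intro i
    have h3 := congrArg (polarBilin Q (e i)) hc
    simp only [map_add, map_sum, map_smul, map_zero, smul_eq_mul] at h3
    have h4 : ∀ j, polarBilin Q (e i) (w j) = 0 := fun j => (hw j i).1
    simp only [← h1, h.ee, h.ef] at h3
    simp only [h1, h4] at h3
    simpa using h3
  have h3 : ∀ i, c (Sum.inl (Sum.inl i)) = 0 := by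
    intro i
    have h3 := congrArg (polarBilin Q (f i)) hc
    simp only [map_add, map_sum, map_smul, map_zero, smul_eq_mul] at h3
    have h4 : ∀ j, polarBilin Q (f i) (w j) = 0 := fun j => (hw j i).2
    simp only [← h1, h.ff, h.fe] at h3
    simp only [h1, h4] at h3
    simpa using h3
  have h4 : ∑ j, c (Sum.inr j) • w j = 0 := by
    simp only [h2, h3, zero_smul, Finset.sum_const_zero, zero_add] at hc
    exact hc
  have h5 := Fintype.linearIndependent_iff.1 hli _ h4
  rintro ((i | i) | i)
  · exact h3 i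
  · exact h2 i
  · exact h5 i

theorem HypFam.linearIndependent {Q : QuadraticForm F V} {k : ℕ} {e f : Fin k → V}
    (h : HypFam Q e f) : LinearIndependent F (Sum.elim e f) := by
  have := h.linearIndependent_sum (κ := Empty) (fun i => i.elim) (fun i => i.elim)
    linearIndependent_empty_type
  exact this.comp Sum.inl Sum.inl_injective

/-- The anisotropic plane: `Q x = 1`, `f(x, y) = 1`, `t² + t + Q y` without roots. -/
theorem exists_anisotropic_pair [Finite F] [FiniteDimensional F V] {Q : QuadraticForm F V} {k : ℕ}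
    {e f : Fin k → V} (h : HypFam Q e f) (hQ : (polarBilin Q).Nondegenerate)
    (h2 : 2 ≤ finrank F (HypFam.perp Q e f)) (han : ∀ x ∈ HypFam.perp Q e f, Q x = 0 → x = 0) :
    ∃ x ∈ HypFam.perp Q e f, ∃ y ∈ HypFam.perp Q e f, Q x = 1 ∧ polar (⇑Q) x y = 1 ∧
      LinearIndependent F ![x, y] ∧ ∀ t : F, t ^ 2 + t + Q y ≠ 0 := by
  set W := HypFam.perp Q e f with hW
  -- a vector with `Q x = 1`
  obtain ⟨x, hx, hx1⟩ : ∃ x ∈ W, Q x = 1 := by
    have h3 : 3 ≤ finrank F (W × F) := by
      rw [finrank_prod, finrank_self]; omega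
    obtain ⟨v, hv0, hv⟩ := exists_singular
      ((Q.comp W.subtype).prod (-(QuadraticMap.sq : QuadraticForm F F))) h3
    rw [QuadraticMap.prod_apply, neg_apply, QuadraticMap.sq_apply,
      QuadraticMap.comp_apply] at hv
    have hv' : Q (v.1 : V) = v.2 * v.2 := by
      have : Q (v.1 : V) + -(v.2 * v.2) = 0 := hv
      linear_combination this
    have ht : v.2 ≠ 0 := by
      intro h0
      apply hv0
      rw [h0, mul_zero] at hv'
      have := han _ v.1.2 hv'
      exact Prod.ext (Subtype.ext this) h0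
    refine ⟨(v.2)⁻¹ • (v.1 : V), W.smul_mem _ v.1.2, ?_⟩
    rw [QuadraticMap.map_smul, hv', smul_eq_mul]
    field_simp
  have hx0 : x ≠ 0 := by
    rintro rfl
    rw [QuadraticMap.map_zero] at hx1
    exact zero_ne_one hx1
  obtain ⟨y₀, hy₀, hxy₀⟩ := h.exists_polar_eq_one hQ hx hx0
  have hxx : polar (⇑Q) x x = 2 := by
    rw [QuadraticMap.polar_self, hx1]; simp
  -- a vector orthogonal to `x`
  obtain ⟨z, hz, hz0, hxz⟩ : ∃ z ∈ W, z ≠ 0 ∧ polar (⇑Q) x z = 0 := by
    let L : W →ₗ[F] F := (polarBilin Q x).comp W.subtype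
    have h4 := LinearMap.finrank_range_add_finrank_ker L
    have h5 : finrank F (LinearMap.range L) ≤ 1 := by
      refine (Submodule.finrank_le _).trans ?_
      rw [finrank_self]
    have h6 : 0 < finrank F (LinearMap.ker L) := by omega
    have : Nontrivial (LinearMap.ker L) := finrank_pos_iff.1 h6
    obtain ⟨z, hz⟩ := exists_ne (0 : LinearMap.ker L)
    refine ⟨z.1.1, z.1.2, fun h0 => hz (Subtype.ext (Subtype.ext h0)), ?_⟩
    exact LinearMap.mem_ker.1 z.2
  -- `y` independent of `x`
  obtain ⟨y, hy, hxy, hind⟩ : ∃ y ∈ W, polar (⇑Q) x y = 1 ∧ ∀ c : F, y ≠ c • x := by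
    by_cases hc : ∃ c : F, y₀ = c • x
    · obtain ⟨c, hc⟩ := hc
      refine ⟨y₀ + z, W.add_mem hy₀ hz, by rw [polar_add_right, hxy₀, hxz, add_zero], ?_⟩
      intro d hd
      have h7 : z = (d - c) • x := by
        rw [sub_smul, ← hd, ← hc]; abel
      have h8 : c * 2 = 1 := by
        rw [hc, polar_smul_right, hxx, smul_eq_mul] at hxy₀
        exact hxy₀
      have h9 : (d - c) * 2 = 0 := by
        rw [h7, polar_smul_right, hxx, smul_eq_mul] at hxz
        exact hxz
      have h10 : (2 : F) ≠ 0 := by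
        intro h0
        rw [h0, mul_zero] at h8
        exact zero_ne_one h8
      have h11 : d - c = 0 := (mul_eq_zero.1 h9).resolve_right h10
      rw [h11, zero_smul] at h7
      exact hz0 h7
    · push Not at hc
      exact ⟨y₀, hy₀, hxy₀, hc⟩
  refine ⟨x, hx, y, hy, hx1, hxy, ?_, ?_⟩
  · rw [LinearIndependent.pair_iff' hx0]
    intro c hc
    exact hind c hc.symm
  · intro t ht
    have h12 : Q (y + t • x) = 0 := by
      rw [QuadraticMap.map_add (⇑Q), QuadraticMap.map_smul, polar_smul_right, polar_comm, hxy, hx1,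
        smul_eq_mul, smul_eq_mul, ← ht]
      ring
    have h13 := han _ (W.add_mem hy (W.smul_mem t hx)) h12
    exact hind (-t) (by rw [neg_smul]; exact eq_neg_of_add_eq_zero_left h13)

end Cfsg.Agent.H181.StdBasis
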