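import Cfsg.Agent.H794.MonThirteen_m3
import Cfsg.Agent.H573.Spor.Norm_m3
import Cfsg.Agent.MonsterU.Final_m3
import Cfsg.Agent.BpSevenCo.Conj
import Cfsg.Agent.MonsterX.InstanceFinal_m3
import Cfsg.Agent.MonsterX.Frames.J8D_m3
import Cfsg.Agent.CoOneType.CoQZ
import Cfsg.Agent.CoOneType.CoW
import Cfsg.Agent.FastGrp
import Cfsg.Agent.Prune
set_option linter.all false
open scoped Cfsg.Agent.FastGrp

-- part: H181/MonClose
section
/-!
# Sylow subgroups of order `p ^ 3` whose centre is not strongly closed (helper181)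

`MonCube.Hyp p x z Q` and an involution `t` inverting `x` and conjugate to `z`: `FullP p G`, or the Sylow `p`-subgroups are
abelian.
-/

set_option autoImplicit false

namespace Cfsg.Agent.H181.MonClose

open Subgroup Cfsg Cfsg.Agent.H794 Cfsg.Agent.H794.MonCore

universe u

variable {G : Type u} [Group G] [Finite G] {p : ℕ} [hp : Fact p.Prime] {x z : G} {Q : Subgroup G}

/-- a `t`-invariant Sylow subgroup of `G` in `C(x)` -/
theorem exists_inv_sylow (h : MonCube.Hyp p x z Q) {t : G} (htt : t * t = 1) (htx : t * x * t⁻¹ = x⁻¹) :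
    ∃ R : Subgroup G, IsPGroup p ↥R ∧ x ∈ R ∧ (∀ r ∈ R, r * x = x * r) ∧ (∀ r ∈ R, t * r * t⁻¹ ∈ R) ∧
      Nat.card ↥R = p ^ 3 := by
  obtain ⟨R, hRp, hxR, hRx, hQR, hRc, -⟩ := h.exists_R
  have hxo : Odd (orderOf x) := by rw [h.hx]; exact hp.out.odd_of_ne_two h.hp2
  obtain ⟨N, hN⟩ := exists_cfg h.hz hxo h.zx h.only
  have hti : t⁻¹ = t := inv_eq_of_mul_eq_one_left htt
  have htx' : t⁻¹ * x * t = x⁻¹ := by
    rw [hti]
    have := htx
    rwa [hti] at this
  -- `p ^ 3` divides `|N|`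
  have hcx : p ^ 3 ∣ Nat.card ↥(centralizer ({x} : Set G)) := by
    rw [← hRc]
    exact Subgroup.card_dvd_of_le fun r hr => mem_centralizer_singleton_iff.2 (hRx r hr)
  have hcard := hN.card_cent
  have hpB : p ∣ Nat.card ↥(N ⊓ (centralizer ({x} : Set G) ⊓ centralizer ({z} : Set G))) := by
    rw [← h.hx, ← Nat.card_zpowers]
    refine Subgroup.card_dvd_of_le (zpowers_le.2 (mem_inf.2 ⟨hN.mem, mem_inf.2 ⟨mem_centralizer_singleton_iff.2 rfl,
      mem_centralizer_singleton_iff.2 h.zx.symm⟩⟩))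
  have hpN : p ^ 3 ∣ Nat.card ↥N := by
    have h1 : p ^ 4 ∣ Nat.card ↥N * Nat.card ↥(centralizer ({x} : Set G) ⊓ centralizer ({z} : Set G)) := by
      rw [← hcard, pow_succ]
      exact Nat.mul_dvd_mul hcx hpB
    have h2 : ¬ p ^ 2 ∣ Nat.card ↥(centralizer ({x} : Set G) ⊓ centralizer ({z} : Set G)) := fun h3 =>
      h.cz (h3.trans (Subgroup.card_dvd_of_le inf_le_right))
    by_contra hcon
    obtain ⟨a, ha, hae⟩ := Nat.exists_eq_pow_mul_and_not_dvd (n := Nat.card ↥N) Nat.card_pos.ne' p hp.out.ne_one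
    obtain ⟨b, hb, hbe⟩ := Nat.exists_eq_pow_mul_and_not_dvd
      (n := Nat.card ↥(centralizer ({x} : Set G) ⊓ centralizer ({z} : Set G))) Nat.card_pos.ne' p hp.out.ne_one
    obtain ⟨hae1, hae2⟩ := hae
    obtain ⟨hbe1, hbe2⟩ := hbe
    have ha1 : a ≤ 2 := by
      by_contra hlt
      exact hcon (by rw [hae2]; exact dvd_mul_of_dvd_left (pow_dvd_pow p (by omega)) _)
    have hb1 : b ≤ 1 := by
      by_contra hlt
      exact h2 (by rw [hbe2]; exact dvd_mul_of_dvd_left (pow_dvd_pow p (by omega)) _)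
    rw [hae2, hbe2, mul_mul_mul_comm, ← pow_add] at h1
    have h5 : (p ^ 4).Coprime (ha * hb) := Nat.Coprime.pow_left 4
      (((Nat.Prime.coprime_iff_not_dvd hp.out).2 hae1).mul_right ((Nat.Prime.coprime_iff_not_dvd hp.out).2 hbe1))
    have h6 := h5.dvd_of_dvd_mul_right h1
    have h7 := (Nat.pow_dvd_pow_iff_le_right hp.out.one_lt).1 h6
    omega
  -- the `t`-invariant normal subgroup
  obtain ⟨N', hN'⟩ : ∃ N', N' = N.map (MulAut.conj t).toMonoidHom := ⟨_, rfl⟩
  have hN'm : ∀ y, y ∈ N' ↔ t * y * t ∈ N := by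
    intro y
    rw [hN', mem_map_conj, hti]
  have hconj : ∀ y ∈ N, t * y * t⁻¹ ∈ N' := by
    intro y hy
    rw [hN'm, hti]
    rwa [show t * (t * y * t) * t = (t * t) * y * (t * t) by group, htt, one_mul, mul_one]
  have hconj' : ∀ y ∈ N', t * y * t⁻¹ ∈ N := by
    intro y hy
    rw [hti]
    exact (hN'm y).1 hy
  have hN'cx : ∀ n ∈ N', n * x = x * n := by
    intro n hn
    have h1 := hN.cx _ (hconj' n hn)
    have h2 : Commute (t * n * t⁻¹) x := h1
    have h3 : Commute n (t⁻¹ * x * t) := by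
      have h4 : t * (n * (t⁻¹ * x * t)) * t⁻¹ = t * ((t⁻¹ * x * t) * n) * t⁻¹ := by
        calc t * (n * (t⁻¹ * x * t)) * t⁻¹ = (t * n * t⁻¹) * x := by group
          _ = x * (t * n * t⁻¹) := h1
          _ = _ := by group
      exact mul_left_cancel (mul_right_cancel h4)
    rw [htx'] at h3
    exact (Commute.inv_right_iff.1 h3).eq
  have hnorm : N' ≤ normalizer (N : Set G) := fun n hn =>
    Transfer.FusionBasic.mem_normalizer_of_conj_mem (hN.nor n (hN'cx n hn))
  have hodd : Odd (Nat.card ↥(N ⊔ N')) := by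
    have h1 := H278.ThompsonSurj.card_sup_mul (K := N) (H := N') hnorm
    have h2 : Nat.card ↥N' = Nat.card ↥N := by
      rw [hN']
      exact Subgroup.card_map_of_injective (MulAut.conj t).injective
    have h3 : Odd (Nat.card ↥N * Nat.card ↥N') := hN.odd.mul (by rw [h2]; exact hN.odd)
    rw [← h1] at h3
    exact (Nat.odd_mul.1 h3).1
  have htinv : ∀ y ∈ N ⊔ N', t * y * t⁻¹ ∈ N ⊔ N' := by
    have h1 : N ⊔ N' ≤ (N ⊔ N').comap (MulAut.conj t).toMonoidHom := by
      refine sup_le (fun y hy => ?_) (fun y hy => ?_)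
      · exact mem_sup_right (hconj y hy)
      · exact mem_sup_left (hconj' y hy)
    exact fun y hy => h1 hy
  have htz : zpowers t ≤ normalizer ((N ⊔ N' : Subgroup G) : Set G) :=
    zpowers_le.2 (Transfer.FusionBasic.mem_normalizer_of_conj_mem htinv)
  have ht2 : IsPGroup 2 ↥(zpowers t) := by
    rintro ⟨y, hy⟩
    refine ⟨1, Subtype.ext ?_⟩
    obtain ⟨i, rfl⟩ := mem_zpowers_iff.1 hy
    show (t ^ i) ^ 2 ^ 1 = 1
    rw [pow_one, ← zpow_natCast, zpow_comm, zpow_natCast, pow_two, htt, one_zpow]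
  have : Fact (Nat.Prime 2) := ⟨Nat.prime_two⟩
  obtain ⟨P, hP⟩ := S0023.result (zpowers t) (N ⊔ N') htz (by
      obtain ⟨k, hk⟩ := IsPGroup.iff_card.1 ht2
      rw [hk]
      exact Nat.Coprime.pow_left k ((Nat.coprime_two_left).2 hodd)) (Or.inl (by
        have := ht2.isNilpotent
        infer_instance)) p
  have hle : (P : Subgroup ↥(N ⊔ N')).map (N ⊔ N').subtype ≤ N ⊔ N' := map_subtype_le _
  have hNx : ∀ y ∈ N ⊔ N', y * x = x * y := by
    have h1 : N ⊔ N' ≤ centralizer ({x} : Set G) :=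
      sup_le (fun y hy => mem_centralizer_singleton_iff.2 (hN.cx y hy))
        (fun y hy => mem_centralizer_singleton_iff.2 (hN'cx y hy))
    exact fun y hy => mem_centralizer_singleton_iff.1 (h1 hy)
  refine ⟨(P : Subgroup ↥(N ⊔ N')).map (N ⊔ N').subtype, P.isPGroup'.map _, ?_, fun r hr => hNx r (hle hr),
    fun r hr => (mem_normalizer_iff.1 (hP (mem_zpowers t)) r).1 hr, ?_⟩
  · have hxp : IsPGroup p ↥(zpowers x) := IsPGroup.of_card (n := 1) (by rw [Nat.card_zpowers, h.hx, pow_one])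
    have hxN : zpowers x ≤ N ⊔ N' := zpowers_le.2 (mem_sup_left hN.mem)
    have hQ1 : IsPGroup p ↥((zpowers x).subgroupOf (N ⊔ N')) :=
      hxp.comap_of_injective (N ⊔ N').subtype (N ⊔ N').subtype_injective
    obtain ⟨P1, hP1⟩ := hQ1.exists_le_sylow
    obtain ⟨n, hn⟩ := MulAction.exists_smul_eq ↥(N ⊔ N') P1 P
    have h3 : (⟨x, hxN (mem_zpowers x)⟩ : ↥(N ⊔ N')) ∈ (P1 : Subgroup ↥(N ⊔ N')) := hP1 (mem_zpowers x)
    have h4 : n * ⟨x, hxN (mem_zpowers x)⟩ * n⁻¹ ∈ (P : Subgroup ↥(N ⊔ N')) := by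
      rw [← hn]
      exact Subgroup.smul_mem_pointwise_smul _ (MulAut.conj n) (P1 : Subgroup ↥(N ⊔ N')) h3
    refine ⟨_, h4, ?_⟩
    show (n : G) * x * (n : G)⁻¹ = x
    rw [hNx n n.2, mul_inv_cancel_right]
  · rw [Subgroup.card_map_of_injective (N ⊔ N').subtype_injective]
    obtain ⟨a, ha⟩ := IsPGroup.iff_card.1 P.isPGroup'
    have h1 : p ^ 3 ∣ p ^ a := by
      rw [← ha]
      exact P.pow_dvd_card_of_pow_dvd_card (hpN.trans (Subgroup.card_dvd_of_le le_sup_left))
    have h2 := (Nat.pow_dvd_pow_iff_le_right hp.out.one_lt).1 h1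
    have h3 : a ≤ 3 := by
      by_contra hlt
      apply h.h4
      exact (pow_dvd_pow p (by omega)).trans (ha ▸ (Subgroup.card_subgroup_dvd_card (P : Subgroup ↥(N ⊔ N'))).trans
        (Subgroup.card_subgroup_dvd_card (N ⊔ N')))
    have h4 : a = 3 := by omega
    show Nat.card ↥(P : Subgroup ↥(N ⊔ N')) = p ^ 3
    rw [ha, h4]

/-- an involution acting on a nonabelian group centralizes an element -/
theorem exists_fixed {R : Subgroup G} {t : G} (htt : t * t = 1) (hR : ∀ r ∈ R, t * r * t⁻¹ ∈ R)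
    (hna : ∃ a ∈ R, ∃ b ∈ R, a * b ≠ b * a) : ∃ s ∈ R, s ≠ 1 ∧ t * s * t⁻¹ = s := by
  by_contra hcon
  push Not at hcon
  let φ : ↥R →* ↥R :=
    { toFun := fun r => ⟨t * r * t⁻¹, hR r r.2⟩
      map_one' := Subtype.ext (by show t * 1 * t⁻¹ = 1; group)
      map_mul' := fun a b => Subtype.ext (by
        show t * ((a : G) * b) * t⁻¹ = (t * a * t⁻¹) * (t * b * t⁻¹)
        group) }
  have hφ : MonoidHom.FixedPointFree φ := by
    intro r hr
    by_contra hne
    exact hcon r r.2 (fun e => hne (Subtype.ext e)) (congrArg Subtype.val hr)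
  have h2 : Function.Involutive φ := by
    intro r
    apply Subtype.ext
    show t * (t * (r : G) * t⁻¹) * t⁻¹ = r
    rw [show t * (t * (r : G) * t⁻¹) * t⁻¹ = (t * t) * r * (t * t)⁻¹ by group, htt]
    group
  obtain ⟨a, ha, b, hb, hab⟩ := hna
  exact hab (congrArg Subtype.val (hφ.commute_all_of_involutive h2 ⟨a, ha⟩ ⟨b, hb⟩).eq)

/-- **The centre is not strongly closed.** -/
theorem not_nfus (h : MonCube.Hyp p x z Q) {t : G} (htt : t * t = 1) (htx : t * x * t⁻¹ = x⁻¹)
    (htz : ∃ g, g * z * g⁻¹ = t) (hna : ∀ S : Sylow p G, ∃ a ∈ (S : Subgroup G), ∃ b ∈ (S : Subgroup G), a * b ≠ b * a) :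
    ¬ NFus p G := by
  intro hNF
  obtain ⟨R, hRp, hxR, hRx, htR, hRc⟩ := exists_inv_sylow h htt htx
  -- `R` is a Sylow subgroup
  obtain ⟨S, hS⟩ := hRp.exists_le_sylow
  have hRS : R = (S : Subgroup G) := by
    refine Subgroup.eq_of_le_of_card_ge hS ?_
    obtain ⟨n, hn⟩ := IsPGroup.iff_card.1 S.2
    rw [hn, hRc]
    refine Nat.pow_le_pow_right hp.out.pos ?_
    by_contra hlt
    exact h.h4 ((pow_dvd_pow p (by omega)).trans (hn ▸ Subgroup.card_subgroup_dvd_card (S : Subgroup G)))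
  have hRna : ∃ a ∈ R, ∃ b ∈ R, a * b ≠ b * a := by
    rw [hRS]
    exact hna S
  obtain ⟨s, hsR, hs1, hts⟩ := exists_fixed htt htR hRna
  have hx1 : x ≠ 1 := by
    intro e
    have := h.hx
    rw [e, orderOf_one] at this
    exact hp.out.one_lt.ne this
  -- `s` is not in `⟨x⟩`
  have hsx : s ∉ zpowers x := by
    intro hsx
    obtain ⟨i, rfl⟩ := mem_zpowers_iff.1 hsx
    have h1 : t * x ^ i * t⁻¹ = (x ^ i)⁻¹ := by
      rw [← conj_zpow, htx, inv_zpow]
    have h2 : x ^ i * x ^ i = 1 := by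
      rw [hts] at h1
      nth_rewrite 2 [h1]
      rw [mul_inv_cancel]
    have h3 : (x ^ i) ^ p = 1 := by
      rw [← zpow_natCast, zpow_comm, zpow_natCast, ← h.hx, pow_orderOf_eq_one, one_zpow]
    obtain ⟨k, hk⟩ := hp.out.odd_of_ne_two h.hp2
    rw [hk, pow_succ, pow_mul, pow_two, h2, one_pow, one_mul] at h3
    exact hs1 h3
  -- `s` is not central in `R`
  have hsZ : ¬ ∀ r ∈ R, r * s = s * r := by
    intro hc
    have h1 : Nat.card ↥(center ↥R) = p := H573.card_center_cube (P := ↥R) hRc fun hall => by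
      obtain ⟨a, ha, b, hb, hab⟩ := hRna
      exact hab (congrArg Subtype.val (hall ⟨a, ha⟩ ⟨b, hb⟩))
    have h2 : zpowers (⟨x, hxR⟩ : ↥R) ≤ center ↥R := zpowers_le.2 (mem_center_iff.2 fun r =>
      Subtype.ext (hRx r r.2))
    have h3 : zpowers (⟨x, hxR⟩ : ↥R) = center ↥R := by
      refine Subgroup.eq_of_le_of_card_ge h2 ?_
      rw [h1, Nat.card_zpowers, ← Subgroup.orderOf_coe, h.hx]
    have h4 : (⟨s, hsR⟩ : ↥R) ∈ center ↥R := mem_center_iff.2 fun r => Subtype.ext (hc r r.2)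
    rw [← h3] at h4
    obtain ⟨i, hi⟩ := mem_zpowers_iff.1 h4
    exact hsx (mem_zpowers_iff.2 ⟨i, congrArg Subtype.val hi⟩)
  -- `s` is conjugate into `⟨x⟩`
  obtain ⟨g, hg⟩ := htz
  have hsz : (g⁻¹ * s * g) * z = z * (g⁻¹ * s * g) := by
    have h1 : s * t = t * s := by
      have := mul_inv_eq_iff_eq_mul.1 hts
      exact this.symm
    rw [← hg] at h1
    calc (g⁻¹ * s * g) * z = g⁻¹ * (s * (g * z * g⁻¹)) * g := by group
      _ = g⁻¹ * ((g * z * g⁻¹) * s) * g := by rw [h1]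
      _ = _ := by group
  obtain ⟨m, hm⟩ : ∃ m : G, m * s * m⁻¹ ∈ zpowers x := by
    let C := centralizer ({z} : Set G)
    let sC : ↥C := ⟨g⁻¹ * s * g, mem_centralizer_singleton_iff.2 hsz⟩
    let xC : ↥C := ⟨x, mem_centralizer_singleton_iff.2 h.zx.symm⟩
    have hsp : IsPGroup p ↥(zpowers sC) := by
      have h1 : ∃ k, sC ^ p ^ k = 1 := by
        obtain ⟨k, hk⟩ := hRp ⟨s, hsR⟩
        refine ⟨k, Subtype.ext ?_⟩
        show (g⁻¹ * s * g) ^ p ^ k = 1
        have h2 : (g⁻¹ * s * g) ^ p ^ k = g⁻¹ * s ^ p ^ k * g := by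
          have := conj_pow (i := p ^ k) (a := g⁻¹) (b := s)
          rwa [inv_inv] at this
        rw [h2, show s ^ p ^ k = 1 from congrArg Subtype.val hk]
        group
      obtain ⟨k, hk⟩ := h1
      obtain ⟨j, -, hj⟩ := (Nat.dvd_prime_pow hp.out).1 (orderOf_dvd_of_pow_eq_one hk)
      exact IsPGroup.of_card (n := j) (by rw [Nat.card_zpowers, hj])
    have hxo : orderOf xC = p := by rw [← Subgroup.orderOf_coe, h.hx]
    have hxp : IsPGroup p ↥(zpowers xC) := IsPGroup.of_card (n := 1) (by rw [Nat.card_zpowers, hxo, pow_one])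
    obtain ⟨P1, hP1⟩ := hsp.exists_le_sylow
    obtain ⟨P2, hP2⟩ := hxp.exists_le_sylow
    have hP2' : zpowers xC = (P2 : Subgroup ↥C) := by
      refine Subgroup.eq_of_le_of_card_ge hP2 ?_
      obtain ⟨n, hn⟩ := IsPGroup.iff_card.1 P2.2
      rw [hn, Nat.card_zpowers, hxo]
      conv_rhs => rw [← pow_one p]
      refine Nat.pow_le_pow_right hp.out.pos ?_
      by_contra hlt
      exact h.cz ((pow_dvd_pow p (by omega)).trans (hn ▸ Subgroup.card_subgroup_dvd_card (P2 : Subgroup ↥C)))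
    obtain ⟨c, hc⟩ := MulAction.exists_smul_eq ↥C P1 P2
    have h3 : c * sC * c⁻¹ ∈ (P2 : Subgroup ↥C) := by
      rw [← hc]
      exact Subgroup.smul_mem_pointwise_smul _ (MulAut.conj c) (P1 : Subgroup ↥C) (hP1 (mem_zpowers sC))
    rw [← hP2'] at h3
    obtain ⟨i, hi⟩ := mem_zpowers_iff.1 h3
    refine ⟨c * g⁻¹, mem_zpowers_iff.2 ⟨i, ?_⟩⟩
    have h4 : x ^ i = (c : G) * (g⁻¹ * s * g) * (c : G)⁻¹ := congrArg Subtype.val hi
    rw [h4]
    group
  obtain ⟨i, hi⟩ := mem_zpowers_iff.1 hm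
  -- control of fusion
  obtain ⟨n, hn, he⟩ := hNF S (zpowers (x ^ i)) (by
      rw [← hRS]
      exact zpowers_le.2 (zpow_mem hxR i)) m⁻¹ (fun y hy => by
      obtain ⟨j, rfl⟩ := mem_zpowers_iff.1 hy
      rw [hi, ← hRS, inv_inv, conj_zpow, show m⁻¹ * (m * s ^ j * m⁻¹) * m = s ^ j by group]
      exact zpow_mem hsR j)
  have h1 := he (x ^ i) (mem_zpowers _)
  have h2 : n * x ^ i * n⁻¹ = s := by
    rw [h1, hi]
    group
  apply hsZ
  intro r hr
  have h3 : n⁻¹ * r * n ∈ R := by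
    rw [hRS] at hr ⊢
    have := (mem_normalizer_iff.1 (inv_mem hn) r).1 hr
    rwa [inv_inv] at this
  have h4 : Commute (n⁻¹ * r * n) (x ^ i) := (show Commute (n⁻¹ * r * n) x from hRx _ h3).zpow_right i
  rw [← h2]
  calc r * (n * x ^ i * n⁻¹) = n * ((n⁻¹ * r * n) * x ^ i) * n⁻¹ := by group
    _ = n * (x ^ i * (n⁻¹ * r * n)) * n⁻¹ := by rw [h4.eq]
    _ = _ := by group

/-- **The criterion.** -/
theorem fullP_or_comm (h : MonCube.Hyp p x z Q) {t : G} (htt : t * t = 1) (htx : t * x * t⁻¹ = x⁻¹)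
    (htz : ∃ g, g * z * g⁻¹ = t) : H749.FullP p G ∨ ∀ S : Sylow p G, IsMulCommutative (S : Subgroup G) := by
  by_cases hna : ∀ S : Sylow p G, ∃ a ∈ (S : Subgroup G), ∃ b ∈ (S : Subgroup G), a * b ≠ b * a
  · exact Or.inl (h.fullP_or_nfus.resolve_right (not_nfus h htt htx htz hna))
  · right
    push Not at hna
    obtain ⟨S, hS⟩ := hna
    refine fun P => ⟨⟨fun a b => Subtype.ext ?_⟩⟩
    obtain ⟨a, ha⟩ := a
    obtain ⟨b, hb⟩ := b
    obtain ⟨g, hg⟩ := MulAction.exists_smul_eq G S P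
    rw [← hg, Sylow.coe_subgroup_smul] at ha hb
    obtain ⟨a', ha', rfl⟩ := ha
    obtain ⟨b', hb', rfl⟩ := hb
    show (g * a' * g⁻¹) * (g * b' * g⁻¹) = (g * b' * g⁻¹) * (g * a' * g⁻¹)
    calc (g * a' * g⁻¹) * (g * b' * g⁻¹) = g * (a' * b') * g⁻¹ := by group
      _ = g * (b' * a') * g⁻¹ := by rw [hS a' ha' b' hb']
      _ = _ := by group

end Cfsg.Agent.H181.MonClose
end

-- part: H181/MonInv
section
/-!
# Involutions of `K` over involutions of `Co1` (helper181)

`exists_inv` : for `A : Co0` with `A * A = 1` and `mk A ≠ 1` there is `t ∈ K`, `t * t = 1`, inducing `A`.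
-/

set_option autoImplicit false

namespace Cfsg.Agent.H181.MonInv

open Cfsg Cfsg.Agent.LeechMat.Core Cfsg.Agent.MonsterX.KSide Cfsg.Agent.MonsterX.KLift
open Cfsg.Agent.MonsterX.FrameKS Cfsg.Agent.MonsterU.InvTwo
open Cfsg.Agent.MonsterU
open Cfsg.Agent.SporadicA.Co0Mono (signCo0)
open Cfsg.Agent.SporadicA.Co1Simple
open Cfsg.Agent.CoOneType.ClosingFacts Cfsg.Agent.CoOneType.SignFacts

variable {G V P W : Type*} [Group G] [AddCommGroup V] [Module ℚ V]
  [DistribMulAction G V] [SMulCommClass G ℚ V] [Group P] [AddCommGroup W] [Module ℚ W]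
  {M : KS G V P W} {θ : leechLattice → P} {Γ : Subgroup G} {τ : G} {y : P}

/-- An involution over a sign change. -/
theorem exists_inv_sign (L : Lift M θ) (H : TauHyp M θ Γ τ y) {c : golayCode} (hc : mk (signCo0 c) ≠ 1) :
    ∃ t ∈ M.K, t * t = 1 ∧ Ind M t (signCo0 c) := by
  have h0 : wt c ≠ 0 := by
    intro h
    apply hc
    rw [eq_zero_of_wt h, Cfsg.Agent.SporadicA.Co0Mono.signCo0_zero]
    rfl
  have h24 : wt c ≠ 24 := by
    intro h
    apply hc
    rw [eq_allOne_of_wt h]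
    have h1 := mk_add_allOne (0 : golayCode)
    rw [zero_add] at h1
    rw [h1, Cfsg.Agent.SporadicA.Co0Mono.signCo0_zero]
    rfl
  obtain ⟨O, hO⟩ : ∃ O, O = support₂ (c : GolayPt → ZMod 2) := ⟨_, rfl⟩
  have hε : InvTwoLat.IsEps (signCo0 c) O := hO ▸ InvTwoLat.isEps_sign c
  have hwt : wt c = O.card := by rw [hO]; rfl
  obtain ⟨i, hi⟩ : O.Nonempty := by
    rw [← Finset.card_pos]
    omega
  obtain ⟨j, hj⟩ : ∃ j, j ∉ O := by
    by_contra hcon
    push Not at hcon
    have h1 : O = Finset.univ := Finset.eq_univ_of_forall hcon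
    rw [h1, Finset.card_univ, Cfsg.Agent.Leech.Code.card_golayPt] at hwt
    exact h24 hwt
  obtain ⟨q, hq2, hsK, hs⟩ := TwoDod.exists_inv_Y L H hε hi hj
  exact ⟨_, hsK, by rw [← TwoDod.Y_mul, hq2, map_one]; group, hs⟩

/-- **Involutions over involutions.** -/
theorem exists_inv (L : Lift M θ) (H : TauHyp M θ Γ τ y) {A : Co0} (hA : A * A = 1) (hA1 : mk A ≠ 1) :
    ∃ t ∈ M.K, t * t = 1 ∧ Ind M t A := by
  obtain ⟨g, c, hg⟩ := Cfsg.Agent.CoOneType.InvBridge.conj_sign A hA
  obtain ⟨t, ht, htt, hI⟩ := exists_inv_sign L H (c := c) (by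
    intro h1
    apply hA1
    rw [← hg, mk_mul, mk_mul] at h1
    have h3 : mk g * mk A * mk g⁻¹ * mk g = 1 * mk g := by rw [h1]
    rw [one_mul, mul_assoc (mk g * mk A), ← mk_mul g⁻¹, inv_mul_cancel, show (mk (1 : Co0)) = 1 from rfl, mul_one] at h3
    exact mul_eq_left.1 h3)
  obtain ⟨k, hk, hkI⟩ := TwoQ.exists_ind M g
  refine ⟨k⁻¹ * t * k, M.K.mul_mem (M.K.mul_mem (M.K.inv_mem hk) ht) hk, ?_, ?_⟩
  · rw [show k⁻¹ * t * k * (k⁻¹ * t * k) = k⁻¹ * (t * t) * k by group, htt, mul_one, inv_mul_cancel]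
  · have h1 := TwoQ.Ind_conj hI hkI.inv
    rw [inv_inv, inv_inv, ← hg] at h1
    rwa [show g⁻¹ * (g * A * g⁻¹) * g = A by group] at h1

end Cfsg.Agent.H181.MonInv
end

-- part: H181/MonT
section
/-!
# Two involutions of `Co0` whose product has order 13 (helper181)

* `t1`, `t2` : `t1 * t1 = 1`, `t2 * t2 = 1`, `(t1 * t2) ^ 13 = 1`, `t1 * t2 ≠ 1`; neither is `1` or `-1`.
-/

set_option autoImplicit false
set_option maxRecDepth 100000

namespace Cfsg.Agent.H181.MonT

open Cfsg Cfsg.Agent.SporadicA Cfsg.Agent.SporadicStructure.Co0Matrix Cfsg.Agent.CoOneType.CoEval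
open Cfsg.Agent.LThreeCo1.Ev Cfsg.Agent.MonsterU.Lam2 Cfsg.Agent.LThreeMB.Fix
open Cfsg.Agent.BpSevenCo

/-- code of a matrix -/
def n1 : ℕ := 479497334928142682715817063299383339219313164437739631642000909921397778984139966725708574278969462525912496130344745885013233743041139063498021000235832901806753144805865384747855574308360924116847147144828456631567514587299588726985450095586118848458356998597155363439741851080155426489053948758813537489741716580444341651002607413581946160207949759231272215355088735158026110902499737532925254273549034847861672491266175099529155316833643046140325565206492631074052788340283620819569334567166428812405707590914756088549927438335092355908628614361316786337251787722112761835613785743956259827109455842418108818329464859134036086291017035831807519260704000631497594790507459034397617515859552394030769417208502578804736910033034957246499900778694983656012389308555794582822250771229953832459700442178303367353660451972299079544105209713605813537394846466887213795856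

/-- code of a matrix -/
def n2 : ℕ := 535591277775116959230008674571960978991056362014512839840489864887379182680957588907044226064966124510015532361743544727837666899258354519403383437972840342322778920474360359886160990922752686674030167202519762336706284076891649672290659848243978064378512902477238538307184057242017702202293693217081167689224108703721685005753372935357722624050614963872960890753444382784193784238060073849932660358193550371058504192986353865342229406250112744014457847313811938295482949197151148723603368751973016779161448697682512697033407989439781116729815379757778324315655190945856579477371553629796460110458800467130435782399201887466647239382161228535289680663976962824167513100505556212143339478847937096364413563038173646308444153426774940171846875690468449442082575022699080915275023064080439579068129019104340577917027845414899452171956686380906532211224721119135824103890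

theorem ok1 : Ok (dec n1) (tr (dec n1)) := ok_of_okN (by exact Cfsg.Agent.CoOneType.CoQ.okz_of (by decide +kernel))

theorem ok2 : Ok (dec n2) (tr (dec n2)) := ok_of_okN (by exact Cfsg.Agent.CoOneType.CoQ.okz_of (by decide +kernel))

/-- the matrices -/
def M : ℕ → List (List ℤ)
  | 0 => dec n1
  | _ => dec n2

theorem okM (i : ℕ) : Ok (M i) (tr (M i)) := by
  unfold M
  split
  · exact ok1
  · exact ok2

/-- the elements -/
noncomputable def e (i : ℕ) : Co0 := Cfsg.Agent.SporadicStructure.Co0Matrix.mk (okM i)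

theorem rep (i : ℕ) : Rep (e i) (M i) := rep_mk (okM i)

theorem sq1 : e 0 * e 0 = 1 := by
  have h := eq_of_eqB (w := [0, 0]) (w' := []) rep (by (delta Cfsg.Agent.LThreeCo1.Ev.eqB; rewrite [Cfsg.Agent.CoOneType.CoW.of_eq Cfsg.Agent.LThreeCo1.Ev.foldZ_eq]; decide +kernel))
  simpa only [List.map_cons, List.map_nil, List.prod_cons, List.prod_nil, mul_one] using h

theorem sq2 : e 1 * e 1 = 1 := by
  have h := eq_of_eqB (w := [1, 1]) (w' := []) rep (by (delta Cfsg.Agent.LThreeCo1.Ev.eqB; rewrite [Cfsg.Agent.CoOneType.CoW.of_eq Cfsg.Agent.LThreeCo1.Ev.foldZ_eq]; decide +kernel))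
  simpa only [List.map_cons, List.map_nil, List.prod_cons, List.prod_nil, mul_one] using h

theorem pow13 : (e 0 * e 1) ^ 13 = 1 := by
  have h := eq_of_eqB (w := (List.replicate 13 [0, 1]).flatten) (w' := []) rep (by (delta Cfsg.Agent.LThreeCo1.Ev.eqB; rewrite [Cfsg.Agent.CoOneType.CoW.of_eq Cfsg.Agent.LThreeCo1.Ev.foldZ_eq]; decide +kernel))
  rw [List.map_nil, List.prod_nil] at h
  rw [← h]
  simp only [List.replicate, List.flatten_cons, List.flatten_nil, List.cons_append, List.nil_append, List.append_nil,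
    List.map_cons, List.map_nil, List.prod_cons, List.prod_nil, mul_one, pow_succ, pow_zero, one_mul, mul_assoc]

theorem ne : e 0 * e 1 ≠ 1 := by
  have h := ne_of_neB' (w := [0, 1]) (w' := []) rep (by (delta Cfsg.Agent.LThreeCo1.Ev.neB'; rewrite [Cfsg.Agent.CoOneType.CoW.of_eq Cfsg.Agent.LThreeCo1.Ev.foldZ_eq]; decide +kernel))
  simpa only [List.map_cons, List.map_nil, List.prod_cons, List.prod_nil, mul_one] using h

end Cfsg.Agent.H181.MonT
end

-- part: H181/MonMod
section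
/-!
# The Monster, `p = 13`: no proper strongly closed subgroups (helper181)

`fullP_or_comm` : `FullP 13 G` or the Sylow 13-subgroups are abelian (which is not the case), for the Monster `G`.
-/

set_option autoImplicit false
set_option maxRecDepth 100000

namespace Cfsg.Agent.H181.MonMod

open Subgroup Cfsg Cfsg.Agent.H794.MonLift Cfsg.Agent.H794.MonThirteen
open Cfsg.Agent.LThreeMB (fr KChart.Cent KChart.pi KChart.chart KChart.pi_eq)
open Cfsg.Agent.MonsterU Cfsg.Agent.MonsterU.Ch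
open Cfsg.Agent.MonsterU.Lam2 (L2)
open Cfsg.Agent.MonsterX
open Cfsg.Agent.CoOneType.ClosingFacts (mk mk_mul mk_eq_one neg_eq)
open Cfsg.Spor (Co1)
open Cfsg.Agent.H794

/-- the model -/
abbrev Gm : Type := ↥InstData.M.G

theorem mk_ne {A B : Co0} (hB : A * B ≠ 1) (hB13 : (A * B) ^ 13 = 1) : mk (A * B) ≠ 1 := by
  intro h
  have h1 := sq_of_mk h
  apply hB
  rw [show 13 = 2 * 6 + 1 by rfl, pow_succ, pow_mul, pow_two, h1, one_pow, one_mul] at hB13
  exact hB13

/-- Involutions of `C(z)` over involutions of `Co1`. -/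
theorem exists_inv {A : Co0} (hA : A * A = 1) (h1 : mk A ≠ 1) :
    ∃ t : centralizer ({KDone.K.z} : Set Gm), t * t = 1 ∧ KChart.pi MFive.Row.hc t = mk A := by
  obtain ⟨t, ht, htt, hI⟩ := MonInv.exists_inv KDone.lft
    (TauInst.tauHyp (Final.cent Uncond.mOrbit Instance.mTrans)) hA h1
  refine ⟨⟨t, mem_centralizer_singleton_iff.2 (KDone.K.z_comm_K t ht)⟩, Subtype.ext htt, ?_⟩
  exact KChart.pi_eq MFive.Row.hc hI

theorem orderOf_mkT : orderOf (mk (MonT.e 0 * MonT.e 1)) = 13 := by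
  have : Fact (Nat.Prime 13) := ⟨by norm_num⟩
  refine orderOf_eq_prime ?_ (mk_ne MonT.ne MonT.pow13)
  have h := congrArg (QuotientGroup.mk' (center Co0)) MonT.pow13
  rwa [map_pow, map_one] at h

theorem mk1_ne : mk (MonT.e 0) ≠ 1 := by
  intro h
  have h1 := orderOf_mkT
  rw [mk_mul, h, one_mul] at h1
  have h2 : mk (MonT.e 1) ^ 2 = 1 := by
    rw [pow_two, ← mk_mul, MonT.sq2]
    rfl
  have h3 := orderOf_dvd_of_pow_eq_one h2
  rw [h1] at h3
  exact absurd (Nat.le_of_dvd (by norm_num) h3) (by norm_num)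

theorem mk2_ne : mk (MonT.e 1) ≠ 1 := by
  intro h
  have h1 := orderOf_mkT
  rw [mk_mul, h, mul_one] at h1
  have h2 : mk (MonT.e 0) ^ 2 = 1 := by
    rw [pow_two, ← mk_mul, MonT.sq1]
    rfl
  have h3 := orderOf_dvd_of_pow_eq_one h2
  rw [h1] at h3
  exact absurd (Nat.le_of_dvd (by norm_num) h3) (by norm_num)

/-- An involution of `C(z)` inverting an element of order 13. -/
theorem exists_dihedral : ∃ x t : centralizer ({KDone.K.z} : Set Gm), orderOf x = 13 ∧ t * t = 1 ∧
    t * x * t⁻¹ = x⁻¹ := by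
  have h := KChart.chart KDone.lft MFive.Row.hc
  obtain ⟨t1, h11, hp1⟩ := exists_inv MonT.sq1 mk1_ne
  obtain ⟨t2, h22, hp2⟩ := exists_inv MonT.sq2 mk2_ne
  obtain ⟨y, hy⟩ : ∃ y, y = t1 * t2 := ⟨_, rfl⟩
  have hpy : KChart.pi MFive.Row.hc y = mk (MonT.e 0 * MonT.e 1) := by rw [hy, map_mul, hp1, hp2, mk_mul]
  have hpy13 : KChart.pi MFive.Row.hc y ^ 13 = 1 := by rw [hpy, ← orderOf_mkT, pow_orderOf_eq_one]
  have hq : (y : Gm) ^ 13 ∈ KDone.K.ι.range := by
    have := (h.pi_eq_one (y ^ 13)).1 (by rw [map_pow, hpy13])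
    exact_mod_cast this
  have hq4 := MFive.pow_four h hq
  have hty : t1 * y * t1⁻¹ = y⁻¹ := by
    have h1 : t1⁻¹ = t1 := inv_eq_of_mul_eq_one_left h11
    have h2 : t2⁻¹ = t2 := inv_eq_of_mul_eq_one_left h22
    rw [hy, mul_inv_rev, h1, h2, ← mul_assoc, h11, one_mul]
  have : Fact (Nat.Prime 13) := ⟨by norm_num⟩
  refine ⟨y ^ 40, t1, orderOf_eq_prime ?_ ?_, h11, ?_⟩
  · apply Subtype.ext
    show ((y : Gm) ^ 40) ^ 13 = 1
    rw [← pow_mul, show 40 * 13 = (13 * 4) * 10 by norm_num, pow_mul, pow_mul, hq4, one_pow]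
  · intro h1
    have h2 := congrArg (KChart.pi MFive.Row.hc) h1
    rw [map_pow, map_one, show 40 = 13 * 3 + 1 by norm_num, pow_succ, pow_mul, hpy13, one_pow, one_mul] at h2
    have h3 := orderOf_mkT
    rw [← hpy, h2, orderOf_one] at h3
    exact absurd h3 (by norm_num)
  · rw [← conj_pow, hty, inv_pow]

/-- `t` is conjugate to `z`. -/
theorem conj_z {x t : Gm} (hx : orderOf x = 13) (htt : t * t = 1) (htx : t * x * t⁻¹ = x⁻¹) :
    ∃ g, g * KDone.K.z * g⁻¹ = t := by
  have : Fact (Nat.Prime 13) := ⟨by norm_num⟩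
  have hx13 : x ^ 13 = 1 := by rw [← hx, pow_orderOf_eq_one]
  have hx1 : x ≠ 1 := by
    rintro rfl
    rw [orderOf_one] at hx
    exact absurd hx (by norm_num)
  have hxx : x * x ≠ 1 := by
    intro h
    apply hx1
    rw [show 13 = 2 * 6 + 1 by rfl, pow_succ, pow_mul, pow_two, h, one_pow, one_mul] at hx13
    exact hx13
  have hx2 : orderOf (x⁻¹ * x⁻¹) = 13 := by
    rw [← mul_inv_rev, orderOf_inv]
    refine orderOf_eq_prime ?_ hxx
    rw [← pow_two, ← pow_mul, mul_comm, pow_mul, hx13, one_pow]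
  have ht1 : t ≠ 1 := by
    rintro rfl
    apply hxx
    rw [one_mul, inv_one, mul_one] at htx
    nth_rewrite 2 [htx]
    rw [mul_inv_cancel]
  rcases MFive.Row.two t htt ht1 with h | ⟨g, hg⟩
  · exact h
  · exfalso
    have h6 := MainPack.six KDone.mGroup KDone.mRep KDone.mLat Uncond.mOrbit Instance.mTrans
      InstanceFinal.mExtra.order_le (g⁻¹ * x * g)
    have e : g * (MainPack.tG KDone.mGroup KDone.mRep * ((g⁻¹ * x * g) * MainPack.tG KDone.mGroup KDone.mRep *
        (g⁻¹ * x * g)⁻¹)) * g⁻¹ = x⁻¹ * x⁻¹ := by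
      calc g * (MainPack.tG KDone.mGroup KDone.mRep * ((g⁻¹ * x * g) * MainPack.tG KDone.mGroup KDone.mRep *
        (g⁻¹ * x * g)⁻¹)) * g⁻¹ = (g * MainPack.tG KDone.mGroup KDone.mRep * g⁻¹) * x *
            (g * MainPack.tG KDone.mGroup KDone.mRep * g⁻¹) * x⁻¹ := by group
        _ = (t * x * t⁻¹) * (t * t) * x⁻¹ := by rw [hg]; group
        _ = x⁻¹ * x⁻¹ := by rw [htx, htt, mul_one]
    have h7 := MFive.Model.orderOf_of_conj e
    rw [h7, hx2] at h6
    exact absurd h6 (by norm_num)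

/-- **The model** (helper794's `hyp_model` with explicit `z`). -/
theorem hyp_model' : ∃ (x : Gm) (Q : Subgroup Gm), MonCube.Hyp 13 x KDone.K.z Q := by
  have hfin := MFive.Row.finite_model
  have hc := MFive.Row.hc
  have h := KChart.chart KDone.lft hc
  have h13 : Nat.Prime 13 := by norm_num
  obtain ⟨x, hx, hxs⟩ := MFive.KPair.exists_order h h13 (by decide) orderOf_s
  have hx13 : x ^ 13 = 1 := by rw [← hx, pow_orderOf_eq_one]
  have hfr : fr (KChart.pi hc x) = 1 := BpMon.Thirteen.fr_pi KDone.lft hc hx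
  have hzx : KDone.K.z * (x : ↥InstData.M.G) = x * KDone.K.z := (mem_centralizer_singleton_iff.1 x.2).symm
  have only : ∀ t : ↥InstData.M.G, t * x = x * t → t * KDone.K.z = KDone.K.z * t → t * t = 1 → t = 1 ∨ t = KDone.K.z := by
    intro t htx htz htt
    by_cases ht : t = 1
    · exact Or.inl ht
    · right
      exact BpMon.Thirteen.only_inv KDone.lft hc (x := x) (t := ⟨t, mem_centralizer_singleton_iff.2 htz⟩) hx
        (Subtype.ext htt) (fun h1 => ht (congrArg Subtype.val h1)) (Subtype.ext htx.symm)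
  obtain ⟨k, hk, hkm⟩ := exists_mem h h13 (by decide) hx13 (V := V) b_mem (by rw [hxs]; exact bs)
  obtain ⟨l, hl, hlm⟩ := exists_mem h h13 (by decide) hx13 (V := V) c_mem (by rw [hxs]; exact cs)
  refine ⟨x, MonLift.lft (KChart.pi hc) x V, ?_⟩
  refine ⟨?_, by rw [orderOf_coe, hx], by norm_num, hzx, only, isPGroup_lft h (by decide) hx13 hfr fun v hv => V_sq hv,
    fun q hq => lft_x hq, fun q hq => lft_z hq, z_mem h, ⟨k, hkm, l, hlm, not_comm h hx13 hfr only hk hl (lft_x hkm)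
      (lft_x hlm)⟩, ?_, ?_, ?_⟩
  · have : Fact (Nat.Prime 2) := ⟨Nat.prime_two⟩
    exact orderOf_eq_prime (by rw [pow_two]; exact h.large.z_sq) h.large.z_ne
  · intro h7
    have h1 := h7.trans (BpRankZero.Seven.card_cz h)
    rw [Cfsg.Agent.MonsterU.CoFrameF.card_Co1] at h1
    norm_num at h1
  · rw [Cfsg.Agent.MonsterP.EquivOf.isM_model.2]
    norm_num
  · rw [Cfsg.Agent.MonsterP.EquivOf.isM_model.2]
    norm_num

/-- Subgroups of order `p` are conjugate when `p ^ 2` does not divide the order. -/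
theorem exists_conj_zpowers {C : Type*} [Group C] [Finite C] {p : ℕ} [hp : Fact p.Prime] (h2 : ¬ p ^ 2 ∣ Nat.card C)
    {x y : C} (hx : orderOf x = p) (hy : orderOf y = p) : ∃ c, c * x * c⁻¹ ∈ zpowers y := by
  have key : ∀ w : C, orderOf w = p → ∃ P : Sylow p C, zpowers w = (P : Subgroup C) := by
    intro w hw
    have hwp : IsPGroup p ↥(zpowers w) := IsPGroup.of_card (n := 1) (by rw [Nat.card_zpowers, hw, pow_one])
    obtain ⟨P, hP⟩ := hwp.exists_le_sylow
    refine ⟨P, Subgroup.eq_of_le_of_card_ge hP ?_⟩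
    obtain ⟨n, hn⟩ := IsPGroup.iff_card.1 P.2
    rw [hn, Nat.card_zpowers, hw]
    conv_rhs => rw [← pow_one p]
    refine Nat.pow_le_pow_right hp.out.pos ?_
    by_contra hlt
    exact h2 ((pow_dvd_pow p (show 2 ≤ n by omega)).trans (hn ▸ Subgroup.card_subgroup_dvd_card (P : Subgroup C)))
  obtain ⟨P1, hP1⟩ := key y hy
  obtain ⟨P2, hP2⟩ := key x hx
  obtain ⟨c, hc⟩ := MulAction.exists_smul_eq C P2 P1
  have hxP : x ∈ (P2 : Subgroup C) := by
    rw [← hP2]
    exact mem_zpowers x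
  refine ⟨c, ?_⟩
  rw [hP1, ← hc]
  exact Subgroup.smul_mem_pointwise_smul _ (MulAut.conj c) (P2 : Subgroup C) hxP

/-- An element of order 13 of `C(z)` is inverted by an involution of `C(z)`. -/
theorem exists_inverting [Finite Gm] {x : Gm} {Q : Subgroup Gm} (h : MonCube.Hyp 13 x KDone.K.z Q) :
    ∃ t : Gm, t * t = 1 ∧ t * x * t⁻¹ = x⁻¹ := by
  have : Fact (Nat.Prime 13) := ⟨by norm_num⟩
  obtain ⟨y, t, hy, htt, hty⟩ := exists_dihedral
  let xC : ↥(centralizer ({KDone.K.z} : Set Gm)) := ⟨x, mem_centralizer_singleton_iff.2 h.zx.symm⟩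
  have hxo : orderOf xC = 13 := by rw [← Subgroup.orderOf_coe, h.hx]
  obtain ⟨c, h3⟩ := exists_conj_zpowers h.cz hxo hy
  obtain ⟨i, hi⟩ := mem_zpowers_iff.1 h3
  have h4 : t * (c * xC * c⁻¹) * t⁻¹ = (c * xC * c⁻¹)⁻¹ := by
    rw [← hi, ← conj_zpow, hty, inv_zpow]
  refine ⟨((c⁻¹ * t * c : ↥(centralizer ({KDone.K.z} : Set Gm))) : Gm), congrArg Subtype.val
    (show (c⁻¹ * t * c) * (c⁻¹ * t * c) = 1 from ?_), congrArg Subtype.val
      (show (c⁻¹ * t * c) * xC * (c⁻¹ * t * c)⁻¹ = xC⁻¹ from ?_)⟩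
  · rw [show c⁻¹ * t * c * (c⁻¹ * t * c) = c⁻¹ * (t * t) * c by group, htt]
    group
  · calc (c⁻¹ * t * c) * xC * (c⁻¹ * t * c)⁻¹ = c⁻¹ * (t * (c * xC * c⁻¹) * t⁻¹) * c := by group
      _ = xC⁻¹ := by rw [h4]; group

theorem model : H749.FullP 13 Gm ∨ ∀ S : Sylow 13 Gm, IsMulCommutative (S : Subgroup Gm) := by
  have hfin := MFive.Row.finite_model
  have : Fact (Nat.Prime 13) := ⟨by norm_num⟩
  obtain ⟨x, Q, h⟩ := hyp_model'
  obtain ⟨t, htt, htx⟩ := exists_inverting h
  exact MonClose.fullP_or_comm h htt htx (conj_z h.hx htt htx)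

/-- **The Monster, `p = 13`.** -/
theorem fullP_or_comm {G : Type*} [Group G] [Finite G] (h : Cfsg.Spor.IsoM G) :
    Cfsg.Agent.H749.FullP 13 G ∨ ∀ S : Sylow 13 G, IsMulCommutative (S : Subgroup G) := by
  obtain ⟨f⟩ := h
  obtain ⟨f'⟩ := Cfsg.Agent.MonsterP.Equiv.equiv
  have e := (f.trans f').symm
  have hfin := MFive.Row.finite_model
  have : Fact (Nat.Prime 13) := ⟨by norm_num⟩
  rcases model with h1 | h1
  · exact Or.inl (H749.FullP.of_mulEquiv e h1)
  · right
    intro S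
    let S' : Sylow 13 Gm := S.comapOfInjective e.toMonoidHom e.injective (by
      rw [MonoidHom.range_eq_top.2 e.surjective]; exact le_top)
    have hS' : ∀ y : Gm, y ∈ (S' : Subgroup Gm) ↔ e y ∈ (S : Subgroup G) := fun y => Iff.rfl
    refine ⟨⟨fun a b => Subtype.ext ?_⟩⟩
    have ha : e.symm a ∈ (S' : Subgroup Gm) := by
      rw [hS', e.apply_symm_apply]
      exact a.2
    have hb : e.symm b ∈ (S' : Subgroup Gm) := by
      rw [hS', e.apply_symm_apply]
      exact b.2
    have h2 : (e.symm (a : G)) * e.symm (b : G) = e.symm (b : G) * e.symm (a : G) :=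
      congrArg Subtype.val ((h1 S').is_comm.comm ⟨_, ha⟩ ⟨_, hb⟩)
    have h3 := congrArg e h2
    rwa [map_mul, map_mul, e.apply_symm_apply, e.apply_symm_apply] at h3

end Cfsg.Agent.H181.MonMod
end
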