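import Mathlib
import Cfsg.Prelude.Def_ClassicalGeometry
import Cfsg.Agent.ClassicalGeometry.OmegaIndex
import Cfsg.Agent.LieClassical.OrthForms
set_option linter.all false

-- part: H181/HypInv
section
/-!
# Involutions negating hyperbolic pairs, `q` odd

For a nondegenerate quadratic form `Q` on `ι → F`, `F` finite of odd order `q`, with hyperbolic pairs of
coordinates `a j, b j` (`j < m`), the diagonal involution negating the first `i` pairs lies in
`Ω(Q) = [O(Q), O(Q)]` if and only if `q ^ i ≡ 1 (mod 4)`.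
-/

set_option autoImplicit false

namespace Cfsg.Agent.H181.HypInv

open QuadraticMap Matrix Cfsg.Agent.ClassicalGeometry.Reflection
open Cfsg.Agent.ClassicalGeometry.SpinorSign

variable {ι : Type} [Fintype ι] [DecidableEq ι] {F : Type*} [Field F]

/-- Hyperbolic pairs of coordinates. -/
structure HypCoord (Q : QuadraticForm F (ι → F)) {m : ℕ} (a b : Fin m → ι) : Prop where
  ne : ∀ j, a j ≠ b j
  Qa : ∀ j, Q (Pi.single (a j) 1) = 0
  Qb : ∀ j, Q (Pi.single (b j) 1) = 0
  pa : ∀ j x, polar (⇑Q) (Pi.single (a j) 1) x = x (b j)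
  pb : ∀ j x, polar (⇑Q) (Pi.single (b j) 1) x = x (a j)

namespace HypCoord

variable {Q : QuadraticForm F (ι → F)} {m : ℕ} {a b : Fin m → ι}

theorem Q_add (h : HypCoord Q a b) (j : Fin m) :
    Q (Pi.single (a j) 1 + Pi.single (b j) 1) = 1 := by
  rw [map_add', h.Qa, h.Qb, h.pa]
  simp

theorem Q_sub (h : HypCoord Q a b) (j : Fin m) :
    Q (Pi.single (a j) 1 - Pi.single (b j) 1) = -1 := by
  rw [sub_eq_add_neg, map_add', QuadraticMap.map_neg, h.Qa, h.Qb, h.pa]
  simp

theorem refl_sub (h : HypCoord Q a b) (j : Fin m) (x : ι → F) (k : ι) :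
    (Cfsg.reflectionMatrix (⇑Q) (Pi.single (a j) 1 - Pi.single (b j) 1) *ᵥ x) k
      = if k = a j then x (b j) else if k = b j then x (a j) else x k := by
  have hne := h.ne j
  rw [reflectionMatrix_mulVec, h.Q_sub, QuadraticMap.polar_sub_left, h.pa, h.pb]
  simp only [Pi.sub_apply, Pi.smul_apply, smul_eq_mul]
  by_cases hka : k = a j
  · subst hka
    simp [Pi.single_apply, hne]
  · by_cases hkb : k = b j
    · subst hkb
      simp [Pi.single_apply, hne, hne.symm]
    · simp [Pi.single_apply, hka, hkb]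

theorem refl_add (h : HypCoord Q a b) (j : Fin m) (x : ι → F) (k : ι) :
    (Cfsg.reflectionMatrix (⇑Q) (Pi.single (a j) 1 + Pi.single (b j) 1) *ᵥ x) k
      = if k = a j then - x (b j) else if k = b j then - x (a j) else x k := by
  have hne := h.ne j
  rw [reflectionMatrix_mulVec, h.Q_add, QuadraticMap.polar_add_left, h.pa, h.pb]
  simp only [Pi.sub_apply, Pi.smul_apply, Pi.add_apply, smul_eq_mul]
  by_cases hka : k = a j
  · subst hka
    simp [Pi.single_apply, hne]
  · by_cases hkb : k = b j
    · subst hkb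
      simp [Pi.single_apply, hne, hne.symm]
    · simp [Pi.single_apply, hka, hkb]

theorem refl_mul (h : HypCoord Q a b) (j : Fin m) :
    Cfsg.reflectionMatrix (⇑Q) (Pi.single (a j) 1 + Pi.single (b j) 1) *
      Cfsg.reflectionMatrix (⇑Q) (Pi.single (a j) 1 - Pi.single (b j) 1)
      = Matrix.diagonal (fun k => if k = a j ∨ k = b j then (-1 : F) else 1) := by
  have hne := h.ne j
  apply Matrix.mulVec_injective
  funext x
  rw [← Matrix.mulVec_mulVec]
  funext k
  rw [h.refl_add, Matrix.mulVec_diagonal, h.refl_sub, h.refl_sub, h.refl_sub]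
  by_cases hka : k = a j
  · subst hka
    simp [hne, hne.symm]
  · by_cases hkb : k = b j
    · subst hkb
      simp [hne, hne.symm]
    · simp [hka, hkb]

open Classical in
/-- the involution negating the first `n` hyperbolic pairs, with its determinant and spinor sign -/
theorem exists_inv [Finite F] (h2 : (2 : F) ≠ 0) (h : HypCoord Q a b) {i : ℕ} (him : i ≤ m)
    (idx : ι → ℕ) (hidx : ∀ (j : Fin m), (j : ℕ) < i → ∀ k, idx k = j ↔ (k = a j ∨ k = b j))
    (n : ℕ) (hn : n ≤ i) :
    ∃ g : Cfsg.isometryGroup F (⇑Q),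
      ((g : Matrix.GeneralLinearGroup ι F) : Matrix ι ι F)
        = Matrix.diagonal (fun k => if idx k < n then (-1 : F) else 1) ∧
      ((g : Matrix.GeneralLinearGroup ι F) : Matrix ι ι F).det = 1 ∧
      spinorSign (⇑Q) (1 : F) g = (if IsSquare (-1 : F) then 1 else -1) ^ n := by
  induction n with
  | zero =>
    refine ⟨1, ?_, ?_, ?_⟩
    · simp
    · simp
    · simp
  | succ n ih =>
    obtain ⟨g, hg1, hg2, hg3⟩ := ih (by omega)
    have hnm : n < m := by omega
    set j : Fin m := ⟨n, hnm⟩ with hj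
    have hu : Q (Pi.single (a j) 1 + Pi.single (b j) 1) ≠ 0 := by
      rw [h.Q_add]; exact one_ne_zero
    have hv : Q (Pi.single (a j) 1 - Pi.single (b j) 1) ≠ 0 := by
      rw [h.Q_sub]; exact neg_ne_zero.2 one_ne_zero
    refine ⟨g * (reflIso Q _ hu * reflIso Q _ hv), ?_, ?_, ?_⟩
    · rw [Subgroup.coe_mul, Units.val_mul, Subgroup.coe_mul, Units.val_mul, coe_reflIso,
        coe_reflIso, h.refl_mul, hg1, Matrix.diagonal_mul_diagonal]
      congr 1
      funext k
      have hk := hidx j (by rw [hj]; exact hn) k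
      have hjn : (j : ℕ) = n := rfl
      rw [hjn] at hk
      rcases lt_trichotomy (idx k) n with h1 | h1 | h1
      · rw [if_pos h1, if_neg (fun h' => h1.ne (hk.2 h')), if_pos (by omega), mul_one]
      · rw [if_neg (by omega), if_pos (hk.1 h1), if_pos (by omega), one_mul]
      · rw [if_neg (by omega), if_neg (fun h' => h1.ne' (hk.2 h')), if_neg (by omega), mul_one]
    · rw [Subgroup.coe_mul, Units.val_mul, Subgroup.coe_mul, Units.val_mul, Matrix.det_mul,
        Matrix.det_mul, det_reflIso, det_reflIso, hg2]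
      ring
    · rw [map_mul, map_mul, hg3, spinorSign_reflIso h2 Q one_ne_zero,
        spinorSign_reflIso h2 Q one_ne_zero, h.Q_add, h.Q_sub, one_mul, one_mul, pow_succ]
      have h11 : IsSquare (1 : F) := ⟨1, (one_mul 1).symm⟩
      rw [if_pos h11]
      split_ifs <;> simp

end HypCoord

theorem pow_mod_four_iff {q : ℕ} (hq : Odd q) (i : ℕ) :
    q ^ i % 4 = 1 ↔ (q % 4 ≠ 3 ∨ Even i) := by
  have h4 : q % 4 = 1 ∨ q % 4 = 3 := by
    have := Nat.odd_iff.1 hq
    omega
  rw [Nat.pow_mod]
  rcases h4 with h | h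
  · rw [h]; simp
  · rw [h]
    have h9 : (3 ^ 2) % 4 = 1 := by norm_num
    rcases Nat.even_or_odd i with hi | hi
    · obtain ⟨k, rfl⟩ := hi
      have : 3 ^ (k + k) % 4 = 1 := by
        rw [← two_mul, pow_mul, Nat.pow_mod]
        simp
      simp [this]
    · have hne : ¬ Even i := Nat.not_even_iff_odd.2 hi
      obtain ⟨k, rfl⟩ := hi
      have : 3 ^ (2 * k + 1) % 4 = 3 := by
        rw [pow_succ, pow_mul, Nat.mul_mod, Nat.pow_mod]
        simp
      simp [this]

/-- **Main lemma**: the diagonal involution negating the first `i` hyperbolic pairs is in `Ω(Q)` iff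
`q ^ i % 4 = 1`. -/
theorem mem_Omega_iff_pow [Fintype F] {q : ℕ} (hF : Fintype.card F = q) (hq : Odd q)
    (Q : QuadraticForm F (ι → F)) (hQ : (polarBilin Q).Nondegenerate) {m : ℕ} {a b : Fin m → ι}
    (h : HypCoord Q a b) {i : ℕ} (hi : 1 ≤ i) (him : i ≤ m)
    (idx : ι → ℕ) (hidx : ∀ (j : Fin m), (j : ℕ) < i → ∀ k, idx k = j ↔ (k = a j ∨ k = b j)) :
    (∃ g : ↥(Cfsg.isometryGroup F (⇑Q)), g ∈ Cfsg.Omega F (⇑Q) ∧
      ((g : Matrix.GeneralLinearGroup ι F) : Matrix ι ι F)
        = Matrix.diagonal (fun k => if idx k < i then (-1 : F) else 1)) ↔ q ^ i % 4 = 1 := by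
  classical
  have hF2 : ringChar F ≠ 2 := by
    intro h0
    have := FiniteField.even_card_of_char_two h0
    rw [hF] at this
    have := Nat.odd_iff.1 hq
    omega
  have h2 : (2 : F) ≠ 0 := Ring.two_ne_zero hF2
  have hcard : 2 ≤ Fintype.card ι := by
    have hne := h.ne ⟨0, by omega⟩
    exact Fintype.one_lt_card_iff.2 ⟨_, _, hne⟩
  obtain ⟨g, hg1, hg2, hg3⟩ := h.exists_inv h2 him idx hidx i le_rfl
  have key : (∃ g : ↥(Cfsg.isometryGroup F (⇑Q)), g ∈ Cfsg.Omega F (⇑Q) ∧
      ((g : Matrix.GeneralLinearGroup ι F) : Matrix ι ι F)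
        = Matrix.diagonal (fun k => if idx k < i then (-1 : F) else 1)) ↔
      g ∈ Cfsg.Omega F (⇑Q) := by
    constructor
    · rintro ⟨g', h1, h3⟩
      have : g' = g := by
        apply Subtype.ext
        apply Units.ext
        rw [h3, hg1]
      rwa [← this]
    · intro h1
      exact ⟨g, h1, hg1⟩
  rw [key, Cfsg.Agent.ClassicalGeometry.OmegaIndex.mem_Omega_iff h2 Q hQ hcard one_ne_zero, hg3,
    pow_mod_four_iff hq, and_iff_right hg2, ← hF, ← FiniteField.isSquare_neg_one_iff]
  by_cases hs : IsSquare (-1 : F)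
  · simp [hs]
  · rw [if_neg hs]
    simp only [hs, false_or]
    constructor
    · intro h1
      by_contra h3
      rw [(Nat.not_even_iff_odd.1 h3).neg_one_pow] at h1
      exact absurd h1 (by decide)
    · intro h1
      exact h1.neg_one_pow

end Cfsg.Agent.H181.HypInv
end

-- part: H181/FormNondeg
section
/-!
Nondegeneracy (in Mathlib's sense) of the polar forms of the standard quadratic forms, and their
hyperbolic pairs of coordinates.
-/

set_option autoImplicit false

namespace Cfsg.Agent.H181.FormNondeg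

open QuadraticMap Cfsg.Agent.LieClassical.OrthForms Cfsg.Agent.H181.HypInv

theorem nondegenerate_of_nondeg {F V : Type*} [Field F] [AddCommGroup V] [Module F V]
    (Q : QuadraticForm F V) (h : Cfsg.Agent.LieClassical.OrthCore.Nondeg Q) :
    (QuadraticMap.polarBilin Q).Nondegenerate := by
  constructor
  · intro x hx
    exact h x hx
  · intro x hx
    refine h x fun y => ?_
    have := hx y
    rwa [QuadraticMap.polarBilin_apply_apply, QuadraticMap.polar_comm] at this

variable (m : ℕ) (F : Type*) [Field F]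

theorem plus_nondegenerate : (polarBilin (plusForm m F)).Nondegenerate :=
  nondegenerate_of_nondeg _ (nondeg_plusForm m F)

theorem odd_nondegenerate (h2 : (2 : F) ≠ 0) : (polarBilin (oddForm m F)).Nondegenerate :=
  nondegenerate_of_nondeg _ (nondeg_oddForm m F h2)

theorem minus_nondegenerate [Finite F] (a b : F)
    (hab : ∀ z₁ z₂ : F, z₁ ^ 2 + a * z₁ * z₂ + b * z₂ ^ 2 = 0 → z₁ = 0 ∧ z₂ = 0) :
    (polarBilin (minusForm m F a b)).Nondegenerate :=
  nondegenerate_of_nondeg _ (nondeg_minusForm m F a b hab)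

theorem hypCoord_plus : HypCoord (plusForm m F) (Sum.inl : Fin m → Fin m ⊕ Fin m) Sum.inr where
  ne j := by simp
  Qa j := by
    rw [coe_plusForm, quadFormPlus_apply]
    simp
  Qb j := by
    rw [coe_plusForm, quadFormPlus_apply]
    simp
  pa j x := by
    rw [polar_plusForm]
    simp [Pi.single_apply]
  pb j x := by
    rw [polar_plusForm]
    simp [Pi.single_apply]

theorem hypCoord_odd : HypCoord (oddForm m F)
    (fun j : Fin m => (Sum.inr (Sum.inl j) : Unit ⊕ (Fin m ⊕ Fin m)))
    (fun j : Fin m => Sum.inr (Sum.inr j)) where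
  ne j := by simp
  Qa j := by
    rw [coe_oddForm, quadFormOdd_apply]
    simp
  Qb j := by
    rw [coe_oddForm, quadFormOdd_apply]
    simp
  pa j x := by
    rw [polar_oddForm]
    simp [Pi.single_apply]
  pb j x := by
    rw [polar_oddForm]
    simp [Pi.single_apply]

theorem hypCoord_minus (a b : F) : HypCoord (minusForm m F a b)
    (fun j : Fin m => (Sum.inl (Sum.inl j) : (Fin m ⊕ Fin m) ⊕ Fin 2))
    (fun j : Fin m => Sum.inl (Sum.inr j)) where
  ne j := by simp
  Qa j := by
    rw [coe_minusForm, quadFormMinus_apply]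
    simp
  Qb j := by
    rw [coe_minusForm, quadFormMinus_apply]
    simp
  pa j x := by
    rw [polar_minusForm]
    simp [Pi.single_apply]
  pb j x := by
    rw [polar_minusForm]
    simp [Pi.single_apply]

theorem two_ne_zero_of_odd [Fintype F] (h : Odd (Fintype.card F)) : (2 : F) ≠ 0 := by
  refine Ring.two_ne_zero fun h0 => ?_
  have h1 := FiniteField.even_card_of_char_two h0
  have := Nat.odd_iff.1 h
  omega

end Cfsg.Agent.H181.FormNondeg
end
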